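import Cfsg.Agent.KFacts.TwF4.CentO
import Cfsg.Agent.KFacts.TwF4.Full
import Cfsg.Agent.H668.Five.Rows
import Cfsg.Agent.H185.NR.Tw
import Cfsg.Agent.S2185

/-!
# S4874: the rows `²F₄(q)` and the Tits group (helper978)
-/

set_option autoImplicit false
set_option linter.unusedSectionVars false

open Cfsg

namespace Cfsg.Agent.H978.Five

open Cfsg.Agent.H668.Five Cfsg.Agent.KFacts.TwF4
open Cfsg.Agent.SplitTwo Cfsg.Agent.SplitTwo.ZS Cfsg.Agent.TitsThree.RankTwoZ Cfsg.Agent.TitsThree.RankTwoRGD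
open Cfsg.Agent.SplitTwo.RootSysZ

section full

variable {F : Type*} [Field F] {σ : F →+* F} {G : Type*} [Group G] (S : Full σ G)

theorem o_sq (a : ZMod 8) (t : F) : S.o a t * S.o a t = 1 := by
  rw [S.o_add, S.add_self, S.o_zero]

theorem o_inv' (a : ZMod 8) (t : F) : (S.o a t)⁻¹ = S.o a t := inv_eq_of_mul_eq_one_left (o_sq S a t)

theorem orderOf_o (a : ZMod 8) : orderOf (S.o a 1) = 2 := by
  have h1 : S.o a (1 : F) ≠ 1 := fun h => one_ne_zero (S.o_eq_one h)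
  exact orderOf_eq_prime (by rw [pow_two, o_sq]) h1

/-- `h = a b`, of order 3 -/
def hh : G := S.o 0 1 * S.o 4 1

theorem hh_cube : hh S ^ 3 = 1 := by
  have h1 : S.n1 * S.o 0 1 * S.n1⁻¹ = S.o (4 - 0) 1 := S.n1_o 0 1
  have h2 : S.n1⁻¹ = S.n1 := inv_eq_of_mul_eq_one_left S.n1_sq
  rw [h2, sub_zero, S.n1_word] at h1
  have ha := o_sq S 0 1
  have hb := o_sq S 4 1
  unfold hh
  have h3 : S.o 0 1 * S.o 4 1 * S.o 0 1 * S.o 4 1 * S.o 0 1 = S.o 4 1 := by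
    calc S.o 0 1 * S.o 4 1 * S.o 0 1 * S.o 4 1 * S.o 0 1 =
        S.o 0 1 * S.o 4 1 * (S.o 0 1 * S.o 0 1) * (S.o 0 1 * S.o 4 1 * S.o 0 1) := by rw [ha]; group
      _ = S.o 0 1 * S.o 4 1 * S.o 0 1 * S.o 0 1 * (S.o 0 1 * S.o 4 1 * S.o 0 1) := by group
      _ = S.o 4 1 := h1
  calc (S.o 0 1 * S.o 4 1) ^ 3 = (S.o 0 1 * S.o 4 1 * S.o 0 1 * S.o 4 1 * S.o 0 1) * S.o 4 1 := by
        rw [pow_succ, pow_two]; group
    _ = 1 := by rw [h3, hb]

theorem hh_mem : hh S ∈ J S.XZ 1 9 :=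
  mul_mem (S.LO_le_J (Subgroup.mem_sup_left (S.mX1 1))) (S.LO_le_J (Subgroup.mem_sup_right (S.mX9 1)))

theorem hh_comm : hh S * S.o 2 1 = S.o 2 1 * hh S := by
  have h1 : S.o 0 1 * S.o 2 1 = S.o 2 1 * S.o 0 1 := S.o_o2 0 1 1
  have h2 : S.o 4 1 * S.o 2 1 = S.o 2 1 * S.o 4 1 := (S.o_o2 2 1 1).symm
  unfold hh
  rw [mul_assoc, h2, ← mul_assoc, h1, mul_assoc]

theorem W_comm {w : G} (hw : w ∈ S.W46) : w * S.o 2 1 = S.o 2 1 * w :=
  (S.W46_comm (mem_J (S.mX5 1) (by norm_num) (by norm_num)) hw).symm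

/-- `h` moves `e 3 0 1` -/
theorem hh_move : hh S * S.e 3 0 1 ≠ S.e 3 0 1 * hh S := by
  intro h
  have r2 : S.e 3 0 1 * S.o 4 1 = S.o 4 1 * S.e 3 0 1 := by
    have : S.e 3 0 1 * S.o 4 1 = S.o 4 1 * S.e 3 0 1 * S.e 4 0 (0 * 1) := S.e_o1 3 0 1 1
    rwa [zero_mul, S.e_zero, mul_one] at this
  have r1 : S.o 0 1 * S.e 3 0 1 = S.e 3 0 1 * S.o 0 1 * S.e 1 0 (σ 1 * 0) * S.o 1 (1 * σ 0) *
      S.e 2 0 (1 * 0 * σ 0 + 1 * 1) := S.o_e3 0 1 0 1
  rw [map_zero, mul_zero, mul_zero, mul_zero, zero_add, S.o_zero, S.e_zero, mul_one, mul_one, mul_one] at r1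
  unfold hh at h
  have h1 : S.o 0 1 * S.e 3 0 1 * S.o 4 1 = S.e 3 0 1 * S.o 0 1 * S.o 4 1 := by
    rw [mul_assoc (S.o 0 1), r2]
    rw [mul_assoc, ← r2] at h
    rw [← mul_assoc] at h
    rw [← mul_assoc]
    rw [mul_assoc (S.o 0 1), ← r2, ← mul_assoc, h, mul_assoc]
  have h2 : S.o 0 1 * S.e 3 0 1 = S.e 3 0 1 * S.o 0 1 := mul_right_cancel h1
  rw [r1] at h2
  have h3 : S.e 2 0 1 = 1 := by
    have := mul_eq_left.1 h2
    exact this
  exact one_ne_zero (S.e_eq_one h3).2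

theorem W46_isPGroup : IsPGroup 2 ↥S.W46 := by
  intro g
  refine ⟨1, ?_⟩
  obtain ⟨u, v, hg⟩ := g.2
  have hc : S.e 3 0 v * S.e 2 0 u = S.e 2 0 u * S.e 3 0 v :=
    S.W46_comm (mem_J (S.mX6 0 v) (by norm_num) (by norm_num)) (S.Z4_W46 u)
  have h2 : S.e 2 0 u * S.e 2 0 u = 1 := by
    rw [S.e_mul, zero_mul, add_zero, add_zero, S.add_self, S.e_zero]
  have h3 : S.e 3 0 v * S.e 3 0 v = 1 := by
    rw [S.e_mul, zero_mul, add_zero, add_zero, S.add_self, S.e_zero]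
  apply Subtype.ext
  rw [pow_one, SubmonoidClass.coe_pow, ← hg, OneMemClass.coe_one, pow_two]
  calc S.e 2 0 u * S.e 3 0 v * (S.e 2 0 u * S.e 3 0 v) = S.e 2 0 u * (S.e 3 0 v * S.e 2 0 u) * S.e 3 0 v := by group
    _ = (S.e 2 0 u * S.e 2 0 u) * (S.e 3 0 v * S.e 3 0 v) := by rw [hc]; group
    _ = 1 := by rw [h2, h3, mul_one]

end full

/-- the abstract form: an involution `z`, an element `h` of order dividing 3 and a 2-group `W` -/
theorem nn_of {G : Type*} [Group G] [Finite G] {z h w : G} {W : Subgroup G} (hW : IsPGroup 2 ↥W)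
    (hz : ∀ x ∈ W, x * z = z * x) (hhz : h * z = z * h) (h3 : h ^ 3 = 1) (hn : ∀ x ∈ W, h * x * h⁻¹ ∈ W)
    (hw : w ∈ W) (hne : h * w ≠ w * h) : NN z := by
  unfold NN
  have hle : W ≤ Subgroup.centralizer ({z} : Set G) := fun x hx =>
    Subgroup.mem_centralizer_singleton_iff.2 (hz x hx)
  refine not_compl_of_act (W.subgroupOf (Subgroup.centralizer ({z} : Set G))) ?_
    ⟨h, Subgroup.mem_centralizer_singleton_iff.2 hhz⟩ ?_ (fun a ha => hn a.1 ha) (a := ⟨w, hle hw⟩) hw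
    (fun he => hne (congrArg Subtype.val he))
  · exact hW.of_equiv (Subgroup.subgroupOfEquivOfLe hle).symm
  · rw [Subgroup.orderOf_mk]
    have hd : orderOf h ∣ 3 := orderOf_dvd_of_pow_eq_one h3
    exact Odd.of_dvd_nat (by decide) hd

theorem nn_full {F : Type*} [Field F] {σ : F →+* F} {G : Type*} [Group G] [Finite G] (S : Full σ G) :
    NN (S.o 2 1) :=
  nn_of (W46_isPGroup S) (fun _ hx => W_comm S hx) (hh_comm S) (hh_cube S)
    (fun _ hx => S.W46_conj (hh_mem S) hx) (S.Z6_W46 1) (hh_move S)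

theorem good_full {F : Type*} [Field F] {σ : F →+* F} {G : Type*} [Group G] [Finite G] (S : Full σ G)
    (h16 : ∃ x : G, orderOf x = 16) : Good G := by
  obtain ⟨x, hx⟩ := h16
  refine Or.inr ⟨S.o 2 1, x ^ 2, orderOf_o S 2, nn_full S, ?_⟩
  rw [orderOf_pow, hx]
  rfl

open Cfsg.Lie Cfsg.Agent.KFacts.TwF4.Inst Cfsg.Agent.ChevalleyStructure.TwF4.TwistedFix

theorem row_2f4 {S : Type*} [Group S] [Finite S] (h : Lie.Iso2F4 S) : Good S := by
  obtain ⟨K, _, _, m, hm, hK, ⟨e⟩⟩ := h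
  have hchar := Cfsg.Agent.ChevalleyStructure.TwF4.Twisted.charP_two hK
  obtain ⟨φ, hφ⟩ := exists_rln hK
  have hfin : Finite (GL chevF4.Idx K) := inferInstance
  exact (good_full (full hK hφ) (Cfsg.Agent.H185.NR.twF4_sixteen K (2 ^ m) (pow_ne_zero _ two_ne_zero))).map
    e.symm.toMonoidHom e.symm.injective

theorem nn_sub {F : Type*} [Field F] {σ : F →+* F} {G : Type*} [Group G] [Finite G] (R : Full σ G) (T : Subgroup G)
    (hT : ∀ g : G, orderOf g = 2 → g ∈ T) : ∃ z : T, orderOf z = 2 ∧ NN z := by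
  have ho : ∀ a, R.o a 1 ∈ T := fun a => hT _ (orderOf_o R a)
  have he : R.e 3 0 1 ∈ T := by
    refine hT _ (orderOf_eq_prime ?_ fun h => one_ne_zero (R.e_eq_one h).2)
    rw [pow_two, R.e_mul, zero_mul, add_zero, add_zero, R.add_self, R.e_zero]
  refine ⟨⟨R.o 2 1, ho 2⟩, by rw [Subgroup.orderOf_mk]; exact orderOf_o R 2, ?_⟩
  refine nn_of (W := R.W46.subgroupOf T) (h := ⟨hh R, mul_mem (ho 0) (ho 4)⟩)
    (w := ⟨R.e 3 0 1, he⟩) ?_ (fun x hx => Subtype.ext (W_comm R hx)) (Subtype.ext (hh_comm R))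
    (Subtype.ext (hh_cube R)) (fun x hx => R.W46_conj (hh_mem R) hx) (R.Z6_W46 1)
    (fun h => hh_move R (congrArg Subtype.val h))
  exact (W46_isPGroup R).comap_subtype

theorem row_tits {S : Type*} [Group S] [Finite S] (h : Lie.IsoTits S) : Good S := by
  obtain ⟨x, hx⟩ := @Cfsg.Agent.H185.NR.transfer16 S TitsGroup _ _ Cfsg.Agent.H185.NR.tits_sixteen h
  obtain ⟨e⟩ := h
  have hK0 : Fintype.card (ZMod 2) = 2 ^ (2 * 0 + 1) := by rw [ZMod.card]; norm_num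
  obtain ⟨φ, hφ⟩ := exists_rln hK0
  have hR := full hK0 hφ
  rw [pow_zero] at hR
  have hfin : Finite (GL chevF4.Idx (ZMod 2)) := inferInstance
  obtain ⟨z, hz, hz'⟩ := nn_sub hR (commutator ↥(twistedF4 (ZMod 2) 1)) Cfsg.Agent.S2185.result
  have hfT : Finite ↥(commutator ↥(twistedF4 (ZMod 2) 1)) := inferInstance
  refine Or.inr ⟨e.symm z, x ^ 2, ?_, hz'.map e.symm.toMonoidHom e.symm.injective, ?_⟩
  · exact (orderOf_injective e.symm.toMonoidHom e.symm.injective z).trans hz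
  · rw [orderOf_pow, hx]
    rfl

end Cfsg.Agent.H978.Five
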